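import Groth.Agent.Vanish.K31.NcdRad
import Groth.Agent.Divis.CartierStalk
import Groth.Agent.Surf.K464.DivLat
import Mathlib.RingTheory.Flat.EquationalCriterion

/-!
# Monomials in the components of a normal crossing divisor; three sections of a smooth curve
-/

set_option autoImplicit false
universe u

open CategoryTheory CategoryTheory.Limits AlgebraicGeometry TopologicalSpace Opposite

namespace K105.Cmp

section Alg

open MvPolynomial

/-- Membership of a monomial in a monomial ideal with two generators, after a flat local extension. -/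
theorem le_or_le_of_mem {σ K S : Type*} [CommRing K] [CommRing S] [IsLocalRing S]
    (φ : MvPolynomial σ K →+* S) (hφ : φ.Flat) (T : Set σ) (hT : ∀ i ∈ T, ¬ IsUnit (φ (X i)))
    (α β γ : σ →₀ ℕ) (hα : ∀ i ∉ T, α i = 0) (hβ : ∀ i ∉ T, β i = 0)
    (h : φ (monomial γ 1) ∈ Ideal.span {φ (monomial α 1), φ (monomial β 1)}) : α ≤ γ ∨ β ≤ γ := by
  classical
  obtain ⟨p, q, hpq⟩ := Ideal.mem_span_pair.1 h
  let _ := φ.toAlgebra
  have hfl : Module.Flat (MvPolynomial σ K) S := hφ
  have hrel : ∑ j : Fin 3, (![monomial γ 1, -monomial α 1, -monomial β 1] : Fin 3 → MvPolynomial σ K) j •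
      (![1, p, q] : Fin 3 → S) j = 0 := by
    simp only [Fin.sum_univ_three, Matrix.cons_val_zero, Matrix.cons_val_one, Matrix.cons_val_two,
      Matrix.tail_cons, Matrix.head_cons, Algebra.smul_def]
    change φ (monomial γ 1) * 1 + φ (-monomial α 1) * p + φ (-monomial β 1) * q = 0
    rw [map_neg, map_neg, ← hpq]
    ring
  obtain ⟨κ, a, y, h1, h2⟩ := Module.Flat.isTrivialRelation_of_sum_smul_eq_zero hrel
  have h3 := h1 0
  simp only [Matrix.cons_val_zero] at h3
  -- some coefficient is a unit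
  have h4 : ∃ j, IsUnit (φ (a 0 j)) := by
    by_contra hcon
    push Not at hcon
    have h5 : (1 : S) ∈ IsLocalRing.maximalIdeal S := by
      rw [h3]
      refine Ideal.sum_mem _ fun j _ => ?_
      rw [Algebra.smul_def]
      exact Ideal.mul_mem_right _ _ ((IsLocalRing.mem_maximalIdeal _).2 (hcon j))
    exact (Ideal.ne_top_iff_one _).1 (IsLocalRing.maximalIdeal.isMaximal S).ne_top h5
  obtain ⟨j, hj⟩ := h4
  have h6 := h2 j
  simp only [Fin.sum_univ_three, Matrix.cons_val_zero, Matrix.cons_val_one, Matrix.cons_val_two,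
      Matrix.tail_cons, Matrix.head_cons] at h6
  have h7 : monomial γ 1 * a 0 j = monomial α 1 * a 1 j + monomial β 1 * a 2 j := by
    linear_combination h6
  -- a monomial of `a 0 j` without the variables of `T`
  have h8 : a 0 j ∉ Ideal.span (X '' T : Set (MvPolynomial σ K)) := by
    intro hmem
    have h9 : φ (a 0 j) ∈ IsLocalRing.maximalIdeal S := by
      have h10 := Ideal.mem_map_of_mem φ hmem
      rw [Ideal.map_span] at h10
      refine (Ideal.span_le.2 ?_) h10
      rintro _ ⟨_, ⟨i, hi, rfl⟩, rfl⟩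
      exact (IsLocalRing.mem_maximalIdeal _).2 (hT i hi)
    exact (IsLocalRing.mem_maximalIdeal _).1 h9 hj
  rw [mem_ideal_span_X_image] at h8
  push Not at h8
  obtain ⟨m, hm, hmT⟩ := h8
  have h11 : coeff (γ + m) (monomial γ 1 * a 0 j) ≠ 0 := by
    rw [coeff_monomial_mul, one_mul]
    exact mem_support_iff.1 hm
  rw [h7, coeff_add] at h11
  have key : ∀ (δ : σ →₀ ℕ) (b : MvPolynomial σ K), (∀ i ∉ T, δ i = 0) → coeff (γ + m) (monomial δ 1 * b) ≠ 0 →
      δ ≤ γ := by
    intro δ b hδ hne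
    rw [coeff_monomial_mul'] at hne
    split_ifs at hne with hle
    · intro i
      by_cases hi : i ∈ T
      · have := hle i
        rw [Finsupp.add_apply, hmT i hi, add_zero] at this
        exact this
      · rw [hδ i hi]
        exact Nat.zero_le _
    · exact absurd rfl hne
  by_cases h12 : coeff (γ + m) (monomial α 1 * a 1 j) = 0
  · rw [h12, zero_add] at h11
    exact Or.inr (key β _ hβ h11)
  · exact Or.inl (key α _ hα h12)

end Alg

section Pt

open LogNCD Groth.Agent.Divis.IdealComap Groth.Agent.Divis.EffCartier Groth.Agent.Divis.BlowChart2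
  Groth.Agent.Divis.CartierBasic

variable {Y S : Scheme.{u}} {y : Y ⟶ S}

theorem flat_germ {X : Scheme.{u}} {U : X.Opens} (hU : IsAffineOpen U) (x : X) (hx : x ∈ U) :
    (X.presheaf.germ U x hx).hom.Flat := by
  let _ := (X.presheaf.germ U x hx).hom.toAlgebra
  have := hU.isLocalization_stalk ⟨x, hx⟩
  exact IsLocalization.flat (X.presheaf.stalk x) (hU.primeIdealOf ⟨x, hx⟩).asIdeal.primeCompl

/-- Monomials in the components of a normal crossing divisor: a monomial lies in an ideal generated by two monomials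
iff it is divisible by one of them. -/
theorem le_or_le_of_stalk {r : ℕ} {D : Fin r → Y.IdealSheafData} (hD : IsNCD D y) (x : Y) (α β γ : Fin r → ℕ)
    (h : stalkIdeal (∏ l, D l ^ γ l) x ≤ stalkIdeal (∏ l, D l ^ α l) x ⊔ stalkIdeal (∏ l, D l ^ β l) x) :
    (∀ l, x ∈ (D l).support → α l ≤ γ l) ∨ (∀ l, x ∈ (D l).support → β l ≤ γ l) := by
  classical
  by_cases hT : Nonempty (Through D x)
  · obtain ⟨W, hxW, n, v, e, he, het, hv, hv'⟩ := hD x hT
    obtain ⟨V, U, hfx, hxU, hUO, -, eU⟩ := exists_affine_le y x W hxW ⊤ trivial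
    have h1 := Groth.Agent.Pi1.H411.Chart.etale_eval₂Hom_appLE y V.1 V.2 U.1 U.2 eU W hUO v het
    have hfin : Finite (Through D x) := inferInstanceAs (Finite {i : Fin r // x ∈ (D i).support})
    have hT' : Fintype (Through D x) := Fintype.ofFinite _
    let φ₀ : MvPolynomial (ULift.{u} (Fin n)) Γ(S, V.1) →+* Γ(Y, U.1) := MvPolynomial.eval₂Hom (y.appLE V.1 U.1 eU).hom
      (fun j => Y.presheaf.map (homOfLE hUO).op (W.topIso.hom (v j)))
    have hφ₀ : φ₀.Flat := by
      let _ := φ₀.toAlgebra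
      have : Algebra.Etale (MvPolynomial (ULift.{u} (Fin n)) Γ(S, V.1)) Γ(Y, U.1) := h1
      exact Algebra.Smooth.flat (MvPolynomial (ULift.{u} (Fin n)) Γ(S, V.1)) Γ(Y, U.1)
    let φ : MvPolynomial (ULift.{u} (Fin n)) Γ(S, V.1) →+* Y.presheaf.stalk x := (Y.presheaf.germ U.1 x hxU).hom.comp φ₀
    have hφ : φ.Flat := RingHom.Flat.comp hφ₀ (flat_germ U.2 x hxU)
    have hX : ∀ j, φ (MvPolynomial.X j) = (Y.presheaf.germ U.1 x hxU).hom (sectOn W hUO (v j)) := fun j => by
      change (Y.presheaf.germ U.1 x hxU).hom (φ₀ (MvPolynomial.X j)) = _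
      congr 1
      exact MvPolynomial.eval₂Hom_X' (y.appLE V.1 U.1 eU).hom _ j
    have hst : ∀ i : Through D x, stalkIdeal (D i.1) x = Ideal.span {φ (MvPolynomial.X (ULift.up (e i)))} := by
      intro i
      rw [stalkIdeal_eq _ U hxU, hv i U hUO, Ideal.map_span, Set.image_singleton, hX]
    let A : (Fin r → ℕ) → (ULift.{u} (Fin n) →₀ ℕ) := fun a =>
      ∑ i : Through D x, Finsupp.single (ULift.up (e i)) (a i.1)
    have hA : ∀ a : Fin r → ℕ, stalkIdeal (∏ l, D l ^ a l) x = Ideal.span {φ (MvPolynomial.monomial (A a) 1)} := by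
      intro a
      have h2 : ∀ l, stalkIdeal (D l ^ a l) x =
          Ideal.span {(if h : x ∈ (D l).support then φ (MvPolynomial.X (ULift.up (e ⟨l, h⟩))) ^ a l else 1)} := by
        intro l
        rw [stalkIdeal_pow]
        by_cases hl : x ∈ (D l).support
        · rw [dif_pos hl, hst ⟨l, hl⟩, Ideal.span_singleton_pow]
        · rw [dif_neg hl, K464.DivLat.stalkIdeal_eq_top hl, Ideal.span_singleton_one, ← Ideal.one_eq_top, one_pow]
      rw [K464.DivLat.stalkIdeal_prod, Finset.prod_congr rfl fun l _ => h2 l, Ideal.prod_span_singleton]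
      congr 2
      rw [← Finset.prod_filter_of_ne (p := fun i => x ∈ (D i).support) (fun i _ hi => by
        by_contra h
        exact hi (dif_neg h))]
      rw [Finset.prod_subtype (p := fun i => x ∈ (D i).support) _ (fun i => by simp)]
      rw [MvPolynomial.monomial_sum_one, map_prod]
      refine Finset.prod_congr rfl fun i _ => ?_
      rw [dif_pos i.2, ← map_pow, MvPolynomial.X_pow_eq_monomial]
    have hAe : ∀ (a : Fin r → ℕ) (i : Through D x), A a (ULift.up (e i)) = a i.1 := by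
      intro a i
      change (∑ j : Through D x, Finsupp.single (ULift.up (e j)) (a j.1)) (ULift.up (e i)) = _
      rw [Finsupp.finsetSum_apply, Finset.sum_eq_single i]
      · rw [Finsupp.single_eq_same]
      · intro j _ hj
        exact Finsupp.single_eq_of_ne fun h => hj (he (ULift.up_injective h.symm))
      · intro h
        exact absurd (Finset.mem_univ i) h
    have hA0 : ∀ (a : Fin r → ℕ), ∀ j ∉ Set.range (fun i : Through D x => (ULift.up (e i) : ULift.{u} (Fin n))),
        A a j = 0 := by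
      intro a j hj
      change (∑ i : Through D x, Finsupp.single (ULift.up (e i)) (a i.1)) j = _
      rw [Finsupp.finsetSum_apply]
      exact Finset.sum_eq_zero fun i _ => Finsupp.single_eq_of_ne fun h => hj ⟨i, h.symm⟩
    have h3 := le_or_le_of_mem φ hφ (Set.range fun i : Through D x => (ULift.up (e i) : ULift.{u} (Fin n)))
      (by
        rintro _ ⟨i, rfl⟩ hu
        have h4 : stalkIdeal (D i.1) x = ⊤ := by rw [hst i, Ideal.span_singleton_eq_top]; exact hu
        exact (Groth.Agent.Divis.CartierBasic.mem_support_iff_stalkIdeal_ne_top (D i.1) x).1 i.2 h4)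
      (A α) (A β) (A γ) (hA0 α) (hA0 β) (by
        rw [hA, hA, hA, ← Ideal.span_union, Set.singleton_union] at h
        exact h (Ideal.mem_span_singleton_self _))
    refine h3.imp (fun h4 l hl => ?_) (fun h4 l hl => ?_)
    · have := h4 (ULift.up (e ⟨l, hl⟩))
      rwa [hAe, hAe] at this
    · have := h4 (ULift.up (e ⟨l, hl⟩))
      rwa [hAe, hAe] at this
  · left
    intro l hl
    exact absurd ⟨⟨l, hl⟩⟩ hT

end Pt

section Sec

open Groth.Agent.Divis.CartierBasic

variable {Y P : Scheme.{u}} {q : P ⟶ Y}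

theorem isClosedImmersion_sec [IsSeparated q] (s : Y ⟶ P) (hs : s ≫ q = 𝟙 Y) : IsClosedImmersion s := by
  have : IsClosedImmersion (s ≫ q) := by rw [hs]; infer_instance
  exact IsClosedImmersion.of_comp s q

/-- The locus where two sections agree, as a closed subscheme. -/
theorem comap_ker_le_iff [IsSeparated q] (s t : Y ⟶ P) (hs : s ≫ q = 𝟙 Y) (ht : t ≫ q = 𝟙 Y) (J : Y.IdealSheafData) :
    s.ker.comap t ≤ J ↔ J.subschemeι ≫ s = J.subschemeι ≫ t := by
  have := isClosedImmersion_sec s hs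
  rw [← Scheme.IdealSheafData.le_map_iff_comap_le]
  change s.ker ≤ (J.subschemeι ≫ t).ker ↔ _
  constructor
  · intro h
    have h1 := IsClosedImmersion.lift_fac s (J.subschemeι ≫ t) h
    have h2 : IsClosedImmersion.lift s (J.subschemeι ≫ t) h = J.subschemeι := by
      have h3 := congrArg (· ≫ q) h1
      simpa only [Category.assoc, hs, ht, Category.comp_id] using h3
    rw [h2] at h1
    exact h1
  · intro h
    rw [← h]
    exact Scheme.Hom.le_ker_comp _ _

/-- The triangle inequality. -/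
theorem comap_ker_le [IsSeparated q] (s t w : Y ⟶ P) (hs : s ≫ q = 𝟙 Y) (ht : t ≫ q = 𝟙 Y) (hw : w ≫ q = 𝟙 Y) :
    s.ker.comap w ≤ s.ker.comap t ⊔ t.ker.comap w := by
  rw [comap_ker_le_iff s w hs hw]
  have h1 := (comap_ker_le_iff s t hs ht _).1 (le_sup_left : s.ker.comap t ≤ s.ker.comap t ⊔ t.ker.comap w)
  have h2 := (comap_ker_le_iff t w ht hw _).1 (le_sup_right : t.ker.comap w ≤ s.ker.comap t ⊔ t.ker.comap w)
  rw [h1, h2]

theorem comap_ker_comm [IsSeparated q] (s t : Y ⟶ P) (hs : s ≫ q = 𝟙 Y) (ht : t ≫ q = 𝟙 Y) :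
    s.ker.comap t = t.ker.comap s := by
  refine le_antisymm ?_ ?_
  · rw [comap_ker_le_iff s t hs ht]
    exact ((comap_ker_le_iff t s ht hs _).1 le_rfl).symm
  · rw [comap_ker_le_iff t s ht hs]
    exact ((comap_ker_le_iff s t hs ht _).1 le_rfl).symm

end Sec

/-- Node (CMP). -/
theorem cmp {S Y P : Scheme.{u}} (y : Y ⟶ S) (q : P ⟶ Y) [IsSeparated q] {r : ℕ} (D : Fin r → Y.IdealSheafData)
    (hD : LogNCD.IsNCD D y) (hne : ∀ l, Nonempty ↥(D l).support) (s t w : Y ⟶ P) (hs : s ≫ q = 𝟙 Y)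
    (ht : t ≫ q = 𝟙 Y) (hw : w ≫ q = 𝟙 Y) (α β γ : Fin r → ℕ) (h1 : s.ker.comap t = ∏ l, D l ^ α l)
    (h2 : s.ker.comap w = ∏ l, D l ^ β l) (h3 : t.ker.comap w = ∏ l, D l ^ γ l) :
    (∀ l, min (α l) (γ l) ≤ β l) ∧
      ∀ x : Y, (∀ l, x ∈ (D l).support → α l ≤ β l) ∨ (∀ l, x ∈ (D l).support → β l ≤ α l) := by
  have kb : ∀ x : Y, (∀ l, x ∈ (D l).support → α l ≤ β l) ∨ (∀ l, x ∈ (D l).support → γ l ≤ β l) := fun x => by
    refine le_or_le_of_stalk hD x α γ β ?_
    rw [← Groth.Agent.Divis.CartierBasic.stalkIdeal_sup]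
    refine Groth.Agent.Divis.CartierBasic.stalkIdeal_mono ?_ x
    rw [← h1, ← h2, ← h3]
    exact comap_ker_le s t w hs ht hw
  have ka : ∀ x : Y, (∀ l, x ∈ (D l).support → β l ≤ α l) ∨ (∀ l, x ∈ (D l).support → γ l ≤ α l) := fun x => by
    refine le_or_le_of_stalk hD x β γ α ?_
    rw [← Groth.Agent.Divis.CartierBasic.stalkIdeal_sup]
    refine Groth.Agent.Divis.CartierBasic.stalkIdeal_mono ?_ x
    rw [← h1, ← h2, ← h3, comap_ker_comm t w ht hw]
    exact comap_ker_le s w t hs hw ht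
  have kc : ∀ x : Y, (∀ l, x ∈ (D l).support → α l ≤ γ l) ∨ (∀ l, x ∈ (D l).support → β l ≤ γ l) := fun x => by
    refine le_or_le_of_stalk hD x α β γ ?_
    rw [← Groth.Agent.Divis.CartierBasic.stalkIdeal_sup]
    refine Groth.Agent.Divis.CartierBasic.stalkIdeal_mono ?_ x
    rw [← h1, ← h2, ← h3, comap_ker_comm s t hs ht]
    exact comap_ker_le t s w ht hs hw
  refine ⟨fun l => ?_, fun x => ?_⟩
  · obtain ⟨x, hx⟩ := hne l
    rcases kb x with h | h
    · exact (min_le_left _ _).trans (h l hx)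
    · exact (min_le_right _ _).trans (h l hx)
  · rcases ka x with h | h
    · exact Or.inr h
    rcases kb x with h' | h'
    · exact Or.inl h'
    rcases kc x with h'' | h''
    · exact Or.inl fun l hl => (h'' l hl).trans (h' l hl)
    · exact Or.inr fun l hl => (h'' l hl).trans (h l hl)

/-- Node (CMP), in the form of post 6607. -/
theorem cmp' {K : Type u} [Field K] {Y P : Scheme.{u}} (y : Y ⟶ Spec (CommRingCat.of K)) [Smooth y] [IsIntegral Y]
    [IsNoetherian Y] (q : P ⟶ Y) [SmoothOfRelativeDimension 1 q] [IsSeparated q] {r : ℕ}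
    (D : Fin r → Y.IdealSheafData) (hD : LogNCD.IsNCD D y) (hint : ∀ l, IsIntegral (D l).subscheme)
    (s t w : Y ⟶ P) (hs : s ≫ q = 𝟙 Y) (ht : t ≫ q = 𝟙 Y) (hw : w ≫ q = 𝟙 Y) (α β γ : Fin r → ℕ)
    (h1 : s.ker.comap t = ∏ l, D l ^ α l) (h2 : s.ker.comap w = ∏ l, D l ^ β l)
    (h3 : t.ker.comap w = ∏ l, D l ^ γ l) :
    (∀ l, min (α l) (γ l) ≤ β l) ∧
      ∀ x : Y, (∀ l, x ∈ (D l).support → α l ≤ β l) ∨ (∀ l, x ∈ (D l).support → β l ≤ α l) := by
  refine cmp y q D hD (fun l => ?_) s t w hs ht hw α β γ h1 h2 h3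
  have := hint l
  obtain ⟨x⟩ := (inferInstance : Nonempty (D l).subscheme)
  refine ⟨⟨(D l).subschemeι x, ?_⟩⟩
  have h4 : (D l).subschemeι x ∈ Set.range (D l).subschemeι := ⟨x, rfl⟩
  rwa [Scheme.IdealSheafData.range_subschemeι] at h4

end K105.Cmp
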